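import Groth.Agent.AbSchX.CubeBase.CubePrinciple
import Groth.Agent.SBBundle.RankOne
import Groth.Agent.SBBundle.Types

/-! # The trivial locus of an invertible module with integral geometric fibres is closed -/

set_option autoImplicit false
set_option linter.style.haveILetI false
set_option backward.isDefEq.respectTransparency.types false
universe u

open CategoryTheory CategoryTheory.Limits AlgebraicGeometry TopologicalSpace Opposite

namespace Groth.Agent.RelPC13.Seesaw

open Groth.Agent.H23 Groth.Agent.H23.TrivBasic Groth.Agent.AbSchX.CubeBase Groth.Agent.MorLib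

section Limit

variable {I : Type u} [SmallCategory I] [IsCofiltered I] {D : I ⥤ Scheme.{u}} {c : Cone D}
  (hc : IsLimit c) (hA : ∀ i, IsAffine (D.obj i))

include hc hA in
/-- The trivial locus is the preimage of a closed subset of a Noetherian stage. -/
theorem isClosed_triv_limit (hN : ∀ i, IsNoetherian (D.obj i)) {X : Scheme.{u}} (pX : X ⟶ c.pt)
    [IsProper pX] [Flat pX] [LocallyOfFinitePresentation pX] (E : X.Modules) (hE : PicF.IsInvertible E)
    (hint : ∀ s : c.pt, IsIntegral (pullback pX (c.pt.fromSpecResidueField s)))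
    (h0 : ∀ s : c.pt, Function.Bijective (pullback.snd pX (c.pt.fromSpecResidueField s)).appTop) :
    IsClosed {s : c.pt | Triv ((Scheme.Modules.pullback (pullback.fst pX (c.pt.fromSpecResidueField s))).obj E)} := by
  haveI := hA
  have hAff : ∀ {i j : I} (a : i ⟶ j), IsAffineHom (D.map a) := fun a => isAffineHom_of_isAffine _
  haveI : ∀ {i j : I} (a : i ⟶ j), IsAffineHom (D.map a) := hAff
  obtain ⟨i, Xi, fi, g, hm⟩ := ConsPropLib.hasModel hc pX
  have := hm.lfp; have := hm.qc; have := hm.qs
  have := hm.compactSpace; have := hm.quasiSeparatedSpace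
  obtain ⟨j, φ, hP⟩ := ConsPropLib.core_isProper I D c hc (fun a b f => hAff f) i (hA i) fi inferInstance
    inferInstance hm.lfp (Desc.of_two @IsProper hm.sq (IsPullback.of_hasPullback _ _) inferInstance)
  have hm' := hm.pushed φ
  have := hm'.lfp
  have := hm'.compactSpace; have := hm'.quasiSeparatedSpace
  haveI : MorphismProperty.RespectsIso (@Flat : MorphismProperty Scheme.{u}) :=
    MorphismProperty.IsStableUnderBaseChange.respectsIso
  obtain ⟨k, ψ, hF⟩ := LimSm.core_flat I D c hc (fun a b f => hAff f) j (hA j) _ inferInstance inferInstance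
    hm'.lfp (Desc.of_two (@Flat : MorphismProperty Scheme.{u}) hm'.sq (IsPullback.of_hasPullback _ _) inferInstance)
  have hm'' := hm'.pushed ψ
  let fk := pullback.snd (pullback.snd fi (D.map φ)) (D.map ψ)
  haveI : IsProper fk := by haveI := hP; exact inferInstanceAs (IsProper (pullback.snd _ _))
  haveI : Flat fk := hF
  have hP' := hm''.sq
  -- the module at a stage
  haveI : CompactSpace ↥(pullback (pullback.snd fi (D.map φ)) (D.map ψ)) :=
    QuasiCompact.compactSpace_of_compactSpace fk
  haveI : ∀ l, CompactSpace ((BC.diag D fk).obj l) := fun l => BC.compactSpace_obj D fk l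
  haveI : ∀ l, ((BC.diag D fk).obj l).IsSeparated := fun l =>
    haveI : IsSeparated (pullback.snd fk (D.map l.hom)) := MorphismProperty.pullback_snd _ _ inferInstance
    @isSeparated_of_affine_base _ (D.obj l.left) (hA _) (pullback.snd fk (D.map l.hom)) this
  haveI : ∀ {l l'} (f : l ⟶ l'), IsAffineHom ((BC.diag D fk).map f) := fun f => BC.isAffineHom_map D fk f
  obtain ⟨l, M, hM, ⟨eM⟩⟩ := exists_inv_stage (BC.isLimitCone D fk hP' hc) E hE
  let π := c.π.app l.left
  let fl : (BC.diag D fk).obj l ⟶ D.obj l.left := pullback.snd fk (D.map l.hom)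
  let q : X ⟶ (BC.diag D fk).obj l := (BC.cone D fk hP').π.app l
  have hq : IsPullback q pX fl π :=
    IsPullback.of_right (by rw [show q ≫ pullback.fst fk (D.map l.hom) = _ from BC.proj_fst D fk hP' l,
      show π ≫ D.map l.hom = c.π.app k from c.w l.hom]; exact hP') (BC.proj_snd D fk hP' l)
      (IsPullback.of_hasPullback fk (D.map l.hom))
  haveI : IsProper fl := MorphismProperty.pullback_snd _ _ inferInstance
  haveI : Flat fl := MorphismProperty.pullback_snd _ _ inferInstance
  haveI := hN l.left
  obtain ⟨C, hC, hCiff⟩ := exists_closed_triv fl hM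
  rw [show {s : c.pt | Triv ((Scheme.Modules.pullback (pullback.fst pX (c.pt.fromSpecResidueField s))).obj E)} =
    π ⁻¹' C from Set.ext fun s => ?_]
  · exact hC.preimage π.continuous
  let ks := c.pt.fromSpecResidueField s
  have hks : ks (IsLocalRing.closedPoint _) = s := Scheme.fromSpecResidueField_apply _ _
  let kk : Spec (CommRingCat.of (c.pt.residueField s)) ⟶ D.obj l.left := ks ≫ π
  have hkk : kk (IsLocalRing.closedPoint _) = π s := congrArg π hks
  have hpaste := (IsPullback.of_hasPullback pX ks).paste_horiz hq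
  let ε := hpaste.isoPullback
  haveI := hint s
  haveI : Nonempty ↥(pullback fl kk) := (inferInstance : Nonempty ↥(pullback pX ks)).map ε.hom
  have hint' : IsIntegral (pullback fl kk) := isIntegral_of_isOpenImmersion ε.inv
  have h0' : Function.Bijective (pullback.snd fl kk).appTop := by
    rw [← hpaste.isoPullback_inv_snd, Scheme.Hom.comp_appTop]
    exact (SeesawGlobal.bijective_appTop_iso ε.symm).comp (h0 s)
  show Triv _ ↔ π s ∈ C
  rw [← hkk, ← hCiff _ kk hint' h0']
  constructor
  · intro h
    refine SeesawGlobal.triv_of_factor ε.inv hpaste.isoPullback_inv_fst ?_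
    exact (triv_comp_iff _ _).1 (Triv.of_iso ((Scheme.Modules.pullback _).mapIso eM.symm) h)
  · intro h
    refine Triv.of_iso ((Scheme.Modules.pullback _).mapIso eM) ((triv_comp_iff _ _).2 ?_)
    exact SeesawGlobal.triv_of_factor ε.hom hpaste.isoPullback_hom_fst h

end Limit

variable {X S : Scheme.{u}} (f : X ⟶ S) [Flat f] [IsProper f] [LocallyOfFinitePresentation f]

/-- The trivial locus is closed. -/
theorem isClosed_triv (E : X.Modules) (hE : PicF.IsInvertible E)
    (hint : ∀ (K : Type u) [Field K] (x : Spec (CommRingCat.of K) ⟶ S), IsIntegral (pullback f x))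
    (h0 : ∀ (K : Type u) [Field K] (x : Spec (CommRingCat.of K) ⟶ S), Function.Bijective (pullback.snd f x).appTop) :
    IsClosed {s : S | Triv ((Scheme.Modules.pullback (pullback.fst f (S.fromSpecResidueField s))).obj E)} := by
  rw [← isOpen_compl_iff, isOpen_iff_forall_mem_open]
  intro s hs
  obtain ⟨_, ⟨U, hU, rfl⟩, hsU, -⟩ := S.isBasis_affineOpens.exists_subset_of_mem_open (Set.mem_univ s) isOpen_univ
  have hU' : IsAffineOpen U := hU
  let R := Γ(S, U)
  let q : Spec R ⟶ S := hU'.fromSpec
  haveI : IsOpenImmersion q := inferInstanceAs (IsOpenImmersion hU'.fromSpec)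
  obtain ⟨t, rfl⟩ : s ∈ Set.range q := by
    show s ∈ Set.range hU'.fromSpec
    rwa [hU'.range_fromSpec]
  haveI : ∀ {i j : (Finset R)ᵒᵖ} (f : i ⟶ j), IsAffineHom ((ConsPropLib.NoethApprox.diagram R).map f) :=
    fun f => ConsPropLib.NoethApprox.isAffineHom_map R f
  let pX : pullback f q ⟶ (ConsPropLib.NoethApprox.cone R).pt := pullback.snd f q
  haveI : IsProper pX := MorphismProperty.pullback_snd _ _ inferInstance
  haveI : Flat pX := MorphismProperty.pullback_snd _ _ inferInstance
  haveI : LocallyOfFinitePresentation pX := MorphismProperty.pullback_snd _ _ inferInstance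
  let E' := (Scheme.Modules.pullback (pullback.fst f q)).obj E
  have hiff : ∀ t' : Spec R,
      (Triv ((Scheme.Modules.pullback (pullback.fst pX ((Spec R).fromSpecResidueField t'))).obj E') ↔
        Triv ((Scheme.Modules.pullback (pullback.fst f (S.fromSpecResidueField (q t')))).obj E)) := by
    intro t'
    let e := pullbackLeftPullbackSndIso f q ((Spec R).fromSpecResidueField t')
    have h1 : Triv ((Scheme.Modules.pullback (pullback.fst pX ((Spec R).fromSpecResidueField t'))).obj E') ↔
        Triv ((Scheme.Modules.pullback (pullback.fst f ((Spec R).fromSpecResidueField t' ≫ q))).obj E) := by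
      refine ⟨fun h => SeesawGlobal.triv_of_factor e.inv ?_ ((triv_comp_iff _ _).1 h),
        fun h => (triv_comp_iff _ _).2 (SeesawGlobal.triv_of_factor e.hom ?_ h)⟩
      · exact pullbackLeftPullbackSndIso_inv_fst f q ((Spec R).fromSpecResidueField t')
      · exact pullbackLeftPullbackSndIso_hom_fst f q ((Spec R).fromSpecResidueField t')
    rw [h1]
    haveI : IsIso (Spec.map (q.residueFieldMap t')) := inferInstance
    have hw : Spec.map (q.residueFieldMap t') ≫ S.fromSpecResidueField (q t') =
        (Spec R).fromSpecResidueField t' ≫ q := Scheme.Hom.SpecMap_residueFieldMap_fromSpecResidueField q t'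
    refine ⟨fun h => SeesawGlobal.triv_pullback_of_factor (inv (Spec.map (q.residueFieldMap t'))) ?_ h,
      fun h => SeesawGlobal.triv_pullback_of_factor (Spec.map (q.residueFieldMap t')) hw h⟩
    rw [← hw, IsIso.inv_hom_id_assoc]
  have hcl := isClosed_triv_limit (D := ConsPropLib.NoethApprox.diagram R)
    (c := ConsPropLib.NoethApprox.cone R) (ConsPropLib.NoethApprox.isLimit R) (fun _ => inferInstance)
    (fun _ => inferInstance) pX E' (PicClLib.isInvertible_pullback _ hE) (fun t' => ?_) (fun t' => ?_)
  · refine ⟨q '' {t' | ¬ Triv ((Scheme.Modules.pullback (pullback.fst pX ((Spec R).fromSpecResidueField t'))).obj E')},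
      ?_, q.isOpenEmbedding.isOpenMap _ hcl.isOpen_compl, ⟨t, fun h => hs ((hiff t).1 h), rfl⟩⟩
    rintro _ ⟨t', ht', rfl⟩ h
    exact ht' ((hiff t').2 h)
  · haveI := hint ((Spec R).residueField t') ((Spec R).fromSpecResidueField t' ≫ q)
    let e := pullbackLeftPullbackSndIso f q ((Spec R).fromSpecResidueField t')
    haveI : Nonempty ↥(pullback pX ((Spec R).fromSpecResidueField t')) :=
      (inferInstance : Nonempty ↥(pullback f ((Spec R).fromSpecResidueField t' ≫ q))).map e.inv
    exact @isIntegral_of_isOpenImmersion _ _ e.hom _ _ ((inferInstance : Nonempty ↥(pullback f ((Spec R).fromSpecResidueField t' ≫ q))).map e.inv)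
  · show Function.Bijective (pullback.snd (pullback.snd f q) ((Spec R).fromSpecResidueField t')).appTop
    rw [← pullbackLeftPullbackSndIso_hom_snd f q ((Spec R).fromSpecResidueField t'), Scheme.Hom.comp_appTop]
    exact (SeesawGlobal.bijective_appTop_iso (pullbackLeftPullbackSndIso f q ((Spec R).fromSpecResidueField t'))).comp
      (h0 _ _)

/-- The immersion representing the locus is closed. -/
theorem isClosedImmersion_locus {Z : Scheme.{u}}
    (hO : ∀ (T : Scheme.{u}) (g : T ⟶ S) (U : T.Opens), IsIso ((pullback.snd f g).app U))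
    (E : X.Modules) (hE : PicF.IsInvertible E) (j : Z ⟶ S) [IsImmersion j]
    (hZ : ∀ (T : Scheme.{u}) (g : T ⟶ S), (∃ g' : T ⟶ Z, g' ≫ j = g) ↔
        ∃ N : T.Modules, FlatMod.IsFinLocFree N ∧
          Nonempty ((Scheme.Modules.pullback (pullback.snd f g)).obj N ≅ (Scheme.Modules.pullback (pullback.fst f g)).obj E))
    (hgeo : ∀ (K : Type u) [Field K] (x : Spec (CommRingCat.of K) ⟶ S), IsIntegral (pullback f x)) :
    IsClosedImmersion j := by
  have h0 : ∀ (K : Type u) [Field K] (x : Spec (CommRingCat.of K) ⟶ S),
      Function.Bijective (pullback.snd f x).appTop := fun K _ x =>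
    haveI := hO _ x ⊤
    ConcreteCategory.bijective_of_isIso ((pullback.snd f x).app ⊤)
  have hr : Set.range j =
      {s : S | Triv ((Scheme.Modules.pullback (pullback.fst f (S.fromSpecResidueField s))).obj E)} := by
    ext s
    refine ⟨?_, fun h => ?_⟩
    · rintro ⟨z, rfl⟩
      haveI : IsIso (j.residueFieldMap z) := by
        refine (ConcreteCategory.isIso_iff_bijective _).2 ⟨(j.residueFieldMap z).hom.injective, fun a => ?_⟩
        obtain ⟨b, rfl⟩ := IsLocalRing.residue_surjective a
        obtain ⟨b', rfl⟩ := j.stalkMap_surjective z b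
        exact ⟨IsLocalRing.residue _ b', rfl⟩
      let g := S.fromSpecResidueField (j z)
      obtain ⟨N, hN, ⟨e⟩⟩ := (hZ _ g).1 ⟨inv (Spec.map (j.residueFieldMap z)) ≫ Z.fromSpecResidueField z, by
        rw [Category.assoc, IsIso.inv_comp_eq]
        exact (Scheme.Hom.SpecMap_residueFieldMap_fromSpecResidueField j z).symm⟩
      haveI := hgeo (S.residueField (j z)) g
      haveI : Surjective (pullback.snd f g) :=
        ⟨fun _ => ⟨Classical.arbitrary _, Subsingleton.elim (α := PrimeSpectrum (S.residueField (j z))) _ _⟩⟩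
      have hNi : PicF.IsInvertible N := SBBundle.isInvertible_of_pullback_iso (pullback.snd f g) hN
        (PicClLib.isInvertible_pullback _ hE) e
      obtain ⟨W, hW, w, hw⟩ := InvX.exists_frame hNi (IsLocalRing.closedPoint (S.residueField (j z)))
      have hle : (⊤ : (Spec (CommRingCat.of (S.residueField (j z)))).Opens) ≤ W := fun p _ => by
        rw [Subsingleton.elim (α := PrimeSpectrum (S.residueField (j z))) p (IsLocalRing.closedPoint _)]
        exact hW
      exact Triv.of_iso e ((triv_of_frame (hw.res hle)).pullback _)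
    · obtain ⟨φ⟩ := h
      obtain ⟨g', hg'⟩ := (hZ _ (S.fromSpecResidueField s)).2 ⟨Coh.structureModule _,
        SBBundle.isFinLocFree_of_isInvertible InvX.isInvertible_structureModule, ⟨(((show Triv (Coh.structureModule _) from ⟨Iso.refl _⟩).pullback _).some) ≪≫ φ.symm⟩⟩
      refine ⟨g' (IsLocalRing.closedPoint (S.residueField s)), ?_⟩
      rw [← Scheme.Hom.comp_apply, hg']
      exact S.fromSpecResidueField_apply _ _
  exact .of_isPreimmersion j (hr ▸ isClosed_triv f E hE hgeo h0)

end Groth.Agent.RelPC13.Seesaw
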